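import Cfsg.Agent.Lib.GTwoThreeMult.CoverCheck

/-!
The edges of the labelled graph of `G2(3)` are kept by generator 1.
-/

set_option autoImplicit false
set_option maxRecDepth 100000

namespace CfsgLib.GTwoThreeMult

theorem lab_ok1 : labOK 1 = true := by decide +kernel

end CfsgLib.GTwoThreeMult
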