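import Cfsg.Agent.Lib.GTwoThreeMult.CoverCheck

/-!
The first two generators of `G2(3)` act on the 378 lines by their permutations.
-/

set_option autoImplicit false
set_option maxRecDepth 100000

namespace CfsgLib.GTwoThreeMult

theorem line_ok0 : lineOK 0 = true := by decide +kernel
theorem line_ok1 : lineOK 1 = true := by decide +kernel

end CfsgLib.GTwoThreeMult
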