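import Cfsg.Agent.Lib.GTwoThreeMult.CoverFirst
import Cfsg.Agent.Lib.GTwoThreeMult.CoverLab0
import Cfsg.Agent.Lib.GTwoThreeMult.CoverLab1
import Cfsg.Agent.Lib.GTwoThreeMult.CoverLab2
import Cfsg.Agent.Lib.GTwoThreeMult.CoverLab3
import Cfsg.Agent.Lib.GTwoThreeMult.CoverLab4
import Cfsg.Agent.Lib.GTwoThreeMult.CoverLineA
import Cfsg.Agent.Lib.GTwoThreeMult.CoverLineB
import Cfsg.Agent.Lib.ChevCover.Basic
import Cfsg.Agent.Lib.KnownSimple.GTwoThree.Main
import Cfsg.Prelude.Def_KGroupFacts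

/-!
The triple cover of `G2(3)`: pairs of a group element and a permutation of the threefold cover of
378 lines that keeps a labelling of a suborbital graph.
-/

set_option autoImplicit false
set_option maxRecDepth 100000

namespace CfsgLib.GTwoThreeMult

open Matrix Cfsg.Lie CfsgLib.ChevStr CfsgLib.Ree3 CfsgLib.KnownSimple.GTwoThree
open scoped commutatorElement

/-- The threefold cover of the lines. -/
abbrev Pt : Type := Fin 378 × ZMod 3

/-- The vector of a line. -/
def vec (x : Fin 378) : Fin 7 → ZMod 3 := fun i => (vdig (ptc x.val) i.val : ZMod 3)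

/-- Labelled adjacency in the cover. -/
def Rel (p q : Pt) : Prop :=
  ∃ k < 117, nb p.1.val k = 4 * q.1.val + ((p.2 - q.2).val + 1)

/-- The matrix of an element. -/
noncomputable def M7of (g : G23) : Matrix (Fin 7) (Fin 7) (ZMod 3) := (rep g : Matrix _ _ _)

theorem M7of_one : M7of 1 = 1 := by simp [M7of]

theorem M7of_mul (g h : G23) : M7of (g * h) = M7of g * M7of h := by simp [M7of]

/-- A permutation of the cover lying over a group element. -/
structure Over (g : G23) (σ : Equiv.Perm Pt) : Prop where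
  line : ∀ p : Pt, ∃ s : ZMod 3, s ≠ 0 ∧ M7of g *ᵥ vec p.1 = s • vec (σ p).1
  comm : ∀ p : Pt, σ (p.1, p.2 + 1) = ((σ p).1, (σ p).2 + 1)
  lab : ∀ p q : Pt, Rel p q → Rel (σ p) (σ q)

theorem Over.mul {g h : G23} {σ τ : Equiv.Perm Pt} (a : Over g σ) (b : Over h τ) :
    Over (g * h) (σ * τ) := by
  refine ⟨fun p => ?_, fun p => ?_, fun p q hpq => a.lab _ _ (b.lab p q hpq)⟩
  · obtain ⟨s, hs, hb⟩ := b.line p
    obtain ⟨t, ht, ha⟩ := a.line (τ p)
    exact ⟨s * t, mul_ne_zero hs ht, by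
      rw [M7of_mul, ← Matrix.mulVec_mulVec, hb, Matrix.mulVec_smul, ha, smul_smul]; rfl⟩
  · simp only [Equiv.Perm.mul_apply, b.comm, a.comm]

theorem over_one : Over 1 1 :=
  ⟨fun p => ⟨1, one_ne_zero, by rw [M7of_one, Matrix.one_mulVec, one_smul]; rfl⟩,
    fun _ => rfl, fun _ _ h => h⟩

/-- The cover. -/
def triple : Subgroup (G23 × Equiv.Perm Pt) where
  carrier := {x | Over x.1 x.2}
  mul_mem' := fun a b => Over.mul a b
  one_mem' := over_one
  inv_mem' := by
    intro x hx
    have hf : IsOfFinOrder x := isOfFinOrder_of_finite x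
    have hpow : ∀ n : ℕ, Over (x ^ n).1 (x ^ n).2 := by
      intro n
      induction n with
      | zero => simpa using over_one
      | succ n ih => rw [pow_succ]; exact Over.mul ih hx
    have h1 : x⁻¹ = x ^ (orderOf x - 1) := by
      refine inv_eq_of_mul_eq_one_right ?_
      rw [← pow_succ', Nat.sub_add_cancel hf.orderOf_pos, pow_orderOf_eq_one]
    show Over x⁻¹.1 x⁻¹.2
    rw [h1]
    exact hpow _

/-- The projection. -/
def proj : triple →* G23 := (MonoidHom.fst _ _).comp triple.subtype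

/-! ### The lines are distinct -/

theorem digits_eq {c : ℕ} (hc : c < 2187) : c = vdig c 0 + 3 * vdig c 1 + 9 * vdig c 2 +
    27 * vdig c 3 + 81 * vdig c 4 + 243 * vdig c 5 + 729 * vdig c 6 := by
  simp only [vdig]
  norm_num
  omega

theorem natCast_zmod_inj {a b : ℕ} (ha : a < 3) (hb : b < 3) (h : (a : ZMod 3) = b) : a = b := by
  rw [ZMod.natCast_eq_natCast_iff'] at h
  omega

theorem vdig_lt (c i : ℕ) : vdig c i < 3 := Nat.mod_lt _ (by norm_num)

theorem vec_inj {x y : Fin 378} {s : ZMod 3} (hs : s ≠ 0) (h : vec x = s • vec y) : x = y := by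
  have hp := pts_ok
  simp only [ptsOK, Bool.and_eq_true, List.all_eq_true, List.mem_range, Nat.beq_eq,
    Nat.blt_eq] at hp
  obtain ⟨⟨hx, hx1⟩, -⟩ := hp x.val x.isLt
  obtain ⟨⟨hy, hy1⟩, hy2⟩ := hp y.val y.isLt
  obtain hs | hs : s = 1 ∨ s = 2 := by clear h; revert s; decide
  · have q : ∀ k, k < 7 → vdig (ptc x.val) k = vdig (ptc y.val) k := fun k hk => by
      refine natCast_zmod_inj (vdig_lt _ _) (vdig_lt _ _) ?_
      simpa [vec, hs] using congrFun h ⟨k, hk⟩
    have e : ptc x.val = ptc y.val := by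
      rw [digits_eq hx, digits_eq hy, q 0 (by omega), q 1 (by omega), q 2 (by omega),
        q 3 (by omega), q 4 (by omega), q 5 (by omega), q 6 (by omega)]
    exact Fin.ext (by rw [← hx1, ← hy1, e])
  · have q : ∀ k, k < 7 → vdig (ptc x.val) k = 2 * vdig (ptc y.val) k % 3 := fun k hk => by
      refine natCast_zmod_inj (vdig_lt _ _) (Nat.mod_lt _ (by norm_num)) ?_
      simpa [vec, hs, ZMod.natCast_mod] using congrFun h ⟨k, hk⟩
    have e : ptc x.val = negc (ptc y.val) := by
      rw [digits_eq hx, q 0 (by omega), q 1 (by omega), q 2 (by omega), q 3 (by omega),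
        q 4 (by omega), q 5 (by omega), q 6 (by omega)]
      rfl
    exact Fin.ext (by rw [← hx1, ← hy2, e])

/-! ### The kernel -/

/-- The shift of the sheets. -/
def shiftPerm (k : ZMod 3) : Equiv.Perm Pt := Equiv.prodCongr (Equiv.refl _) (Equiv.addRight k)

theorem shiftPerm_apply (k : ZMod 3) (p : Pt) : shiftPerm k p = (p.1, p.2 + k) := rfl

theorem Over.shift {g : G23} {σ : Equiv.Perm Pt} (h : Over g σ) (k : ZMod 3) (p : Pt) :
    σ (p.1, p.2 + k) = ((σ p).1, (σ p).2 + k) := by
  obtain ⟨n, rfl⟩ : ∃ n : ℕ, (n : ZMod 3) = k := ⟨k.val, ZMod.natCast_zmod_val k⟩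
  induction n with
  | zero => simp
  | succ n ih =>
    rw [Nat.cast_succ, ← add_assoc, ← add_assoc]
    have h1 := h.comm (p.1, p.2 + (n : ZMod 3))
    rw [ih] at h1
    exact h1

theorem over_shift (k : ZMod 3) : Over 1 (shiftPerm k) := by
  refine ⟨fun p => ⟨1, one_ne_zero, by rw [M7of_one, Matrix.one_mulVec, one_smul]; rfl⟩,
    fun p => ?_, fun p q h => ?_⟩
  · rw [shiftPerm_apply, shiftPerm_apply, add_right_comm]
  · simpa [Rel, shiftPerm_apply] using h

theorem edge_uniq (x : ℕ) (hx : x < 378) (k : ℕ) (hk : k < 117) (h : nb x k / 4 = nb x 0 / 4) :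
    k = 0 := by
  have hc := first_ok
  simp only [firstOK, List.all_eq_true, List.mem_range, Bool.or_eq_true, Nat.beq_eq,
    Bool.not_eq_true'] at hc
  rcases hc x hx k hk with h0 | h0
  · exact h0
  · rw [h] at h0; simp at h0

theorem connected {P : Fin 378 → Prop} (h0 : P 0)
    (hstep : ∀ x y : Fin 378, ∀ t, 1 ≤ t → t ≤ 3 → nb x.val 0 = 4 * y.val + t → P y → P x) :
    ∀ x, P x := by
  intro ⟨x, hx⟩
  induction x using Nat.strong_induction_on with
  | _ x ih =>
    have hc := conn_ok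
    simp only [connOK, List.all_eq_true, List.mem_range, Bool.or_eq_true, Nat.beq_eq,
      Bool.and_eq_true, Nat.blt_eq, Bool.not_eq_true'] at hc
    rcases hc x hx with rfl | ⟨hy, hne⟩
    · exact h0
    · have hne' : nb x 0 % 4 ≠ 0 := fun e => by rw [e] at hne; simp at hne
      exact hstep ⟨x, hx⟩ ⟨nb x 0 / 4, hy.trans hx⟩ (nb x 0 % 4) (by omega) (by omega)
        (by dsimp only; omega) (ih _ hy (hy.trans hx))

theorem eq_shift {σ : Equiv.Perm Pt} (h : Over 1 σ) : σ = shiftPerm (σ (0, 0)).2 := by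
  have hfst : ∀ p : Pt, (σ p).1 = p.1 := by
    intro p
    obtain ⟨s, hs, he⟩ := h.line p
    rw [M7of_one, Matrix.one_mulVec] at he
    exact (vec_inj hs he).symm
  have hsh : ∀ (x : Fin 378) (a : ZMod 3), (σ (x, a)).2 = (σ (x, 0)).2 + a := fun x a => by
    have h1 := congrArg Prod.snd (h.shift a (x, 0))
    simpa using h1
  have hall : ∀ x : Fin 378, (σ (x, 0)).2 = (σ (0, 0)).2 := by
    refine connected rfl fun x y t ht1 ht3 hnb hy => ?_
    have hrel : Rel (x, ((t - 1 : ℕ) : ZMod 3)) (y, 0) := by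
      refine ⟨0, by norm_num, ?_⟩
      show nb x.val 0 = 4 * y.val + ((((t - 1 : ℕ) : ZMod 3) - 0).val + 1)
      rw [sub_zero, ZMod.val_natCast, Nat.mod_eq_of_lt (by omega)]
      omega
    obtain ⟨k, hk, h1⟩ := h.lab _ _ hrel
    simp only [hfst] at h1
    have hv := ZMod.val_lt ((σ (x, ((t - 1 : ℕ) : ZMod 3))).2 - (σ (y, 0)).2)
    have huniq := edge_uniq x.val x.isLt k hk (by omega)
    subst huniq
    have h2 : ((σ (x, ((t - 1 : ℕ) : ZMod 3))).2 - (σ (y, 0)).2).val = t - 1 := by omega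
    have h3 := congrArg (fun n : ℕ => (n : ZMod 3)) h2
    simp only [ZMod.natCast_zmod_val] at h3
    rw [hsh x ((t - 1 : ℕ) : ZMod 3), hy] at h3
    linear_combination h3
  refine Equiv.ext fun p => Prod.ext (hfst p) ?_
  obtain ⟨x, a⟩ := p
  rw [hsh, hall, shiftPerm_apply, add_comm]

/-! ### Lifts of the root elements -/

theorem line_ok (i : Fin 5) : lineOK i.val = true := by
  obtain ⟨i, hi⟩ := i
  interval_cases i
  exacts [line_ok0, line_ok1, line_ok2, line_ok3, line_ok4]

theorem lab_ok (i : Fin 5) : labOK i.val = true := by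
  obtain ⟨i, hi⟩ := i
  interval_cases i
  exacts [lab_ok0, lab_ok1, lab_ok2, lab_ok3, lab_ok4]

theorem gRoot_lt (i : Fin 5) : gRoot i.val < chevG2.nroots := by revert i; decide

/-- A generator. -/
noncomputable def gEl (i : Fin 5) : G23 := elt [(gRoot i.val, 1)]

theorem rep_root (i : Fin 5) :
    M7of (gEl i) = toMat (rootImages.getD (3 * gRoot i.val + 1) 0) := by
  rw [M7of, gEl, rep_elt _ (fun p hp => by
    rw [List.mem_singleton.1 hp]; exact ⟨gRoot_lt i, by norm_num⟩)]
  simp

theorem dat_facts (i : Fin 5) (x : Fin 378) : dat i.val x.val / 4 < 378 ∧ dat i.val x.val % 4 < 3 ∧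
    lineTo (rootImages.getD (3 * gRoot i.val + 1) 0) (ptc x.val) (ptc (dat i.val x.val / 4))
      = true := by
  have h := line_ok i
  simp only [lineOK, Bool.and_eq_true, List.all_eq_true, List.mem_range, Nat.blt_eq] at h
  obtain ⟨⟨h1, h2⟩, h3⟩ := h x.val x.isLt
  exact ⟨h1, h2, h3⟩

theorem line_image (i : Fin 5) (x : Fin 378) : ∃ s : ZMod 3, s ≠ 0 ∧
    M7of (gEl i) *ᵥ vec x = s • vec ⟨dat i.val x.val / 4, (dat_facts i x).1⟩ := by
  have h1 := (dat_facts i x).2.2
  simp only [lineTo, Bool.or_eq_true, List.all_eq_true, List.mem_range, Nat.beq_eq] at h1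
  rw [rep_root]
  have hdot : ∀ j : Fin 7, (toMat (rootImages.getD (3 * gRoot i.val + 1) 0) *ᵥ vec x) j =
      (rowDot (rootImages.getD (3 * gRoot i.val + 1) 0) (ptc x.val) j.val : ZMod 3) := by
    intro j
    simp only [rowDot, ZMod.natCast_mod, Nat.cast_add, Nat.cast_mul, Matrix.mulVec, dotProduct,
      Fin.sum_univ_seven, toMat, Matrix.of_apply, vec]
    rfl
  rcases h1 with h1 | h1
  · refine ⟨1, one_ne_zero, funext fun j => ?_⟩
    rw [one_smul, hdot, h1 j.val j.isLt]
    rfl
  · refine ⟨2, by decide, funext fun j => ?_⟩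
    rw [hdot, h1 j.val j.isLt, ZMod.natCast_mod, Nat.cast_mul]
    rfl

theorem line_injective (i : Fin 5) :
    Function.Injective fun x : Fin 378 => (⟨dat i.val x.val / 4, (dat_facts i x).1⟩ : Fin 378) := by
  intro x y hxy
  obtain ⟨s, hs, hx⟩ := line_image i x
  obtain ⟨t, ht, hy⟩ := line_image i y
  simp only at hxy
  rw [hxy] at hx
  have hinv : M7of (gEl i)⁻¹ * M7of (gEl i) = 1 := by
    rw [← M7of_mul, inv_mul_cancel, M7of_one]
  have h1 := congrArg (fun v => M7of (gEl i)⁻¹ *ᵥ v) hx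
  have h2 := congrArg (fun v => M7of (gEl i)⁻¹ *ᵥ v) hy
  simp only [Matrix.mulVec_mulVec, hinv, Matrix.one_mulVec, Matrix.mulVec_smul] at h1 h2
  refine vec_inj (mul_ne_zero hs (inv_ne_zero ht)) ?_
  rw [h1, h2, smul_smul, mul_assoc, inv_mul_cancel₀ ht, mul_one]

/-- The permutation of the lines by a generator. -/
noncomputable def linePerm (i : Fin 5) : Equiv.Perm (Fin 378) :=
  Equiv.ofBijective _ ((line_injective i).bijective_of_finite)

theorem linePerm_val (i : Fin 5) (x : Fin 378) : (linePerm i x).val = dat i.val x.val / 4 := rfl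

/-- The lift of a generator. -/
noncomputable def liftPerm (i : Fin 5) : Equiv.Perm Pt where
  toFun p := (linePerm i p.1, p.2 + ((dat i.val p.1.val % 4 : ℕ) : ZMod 3))
  invFun p := ((linePerm i).symm p.1,
    p.2 - ((dat i.val ((linePerm i).symm p.1).val % 4 : ℕ) : ZMod 3))
  left_inv p := by simp
  right_inv p := by simp

theorem liftPerm_apply (i : Fin 5) (p : Pt) :
    liftPerm i p = (linePerm i p.1, p.2 + ((dat i.val p.1.val % 4 : ℕ) : ZMod 3)) := rfl

theorem over_liftPerm (i : Fin 5) : Over (gEl i) (liftPerm i) := by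
  refine ⟨fun p => line_image i p.1, fun p => ?_, fun p q hpq => ?_⟩
  · rw [liftPerm_apply, liftPerm_apply, add_right_comm]
  · obtain ⟨k, hk, hnb⟩ := hpq
    have h := lab_ok i
    simp only [labOK, rowOK, edgeOK, List.all_eq_true, List.mem_range, Bool.and_eq_true,
      Nat.beq_eq, Nat.blt_eq] at h
    obtain ⟨⟨h1, h2⟩, -⟩ := h p.1.val p.1.isLt k hk
    have hv := ZMod.val_lt (p.2 - q.2)
    change ((adjs.getD p.1.val 0) >>> (11 * k)) % 2048 = _ at hnb
    have hy : (4 * q.1.val + ((p.2 - q.2).val + 1)) / 4 = q.1.val := by omega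
    have hl : (4 * q.1.val + ((p.2 - q.2).val + 1)) % 4 = (p.2 - q.2).val + 1 := by omega
    rw [hnb, hy] at h1 h2
    rw [hl, Nat.add_sub_cancel] at h1
    refine ⟨_, h2, ?_⟩
    have ha := (dat_facts i p.1).2.1
    have hb := (dat_facts i q.1).2.1
    have key : ∀ (u v : ZMod 3) (a b : Fin 3), (u + (a.val : ZMod 3) - (v + (b.val : ZMod 3))).val =
        ((u - v).val + a.val + 3 - b.val) % 3 := by decide +kernel
    simp only [liftPerm_apply, linePerm_val]
    rw [key p.2 q.2 ⟨_, ha⟩ ⟨_, hb⟩]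
    exact h1

/-! ### The extension -/

theorem comm_elts : gEl 3 * gEl 4 = gEl 4 * gEl 3 := by
  refine rep_injective (Units.ext ?_)
  show M7of _ = M7of _
  rw [M7of_mul, M7of_mul, rep_root 3, rep_root 4]
  decide +kernel

/-- The lift of a generator in the cover. -/
noncomputable def liftEl (i : Fin 5) : triple := ⟨(gEl i, liftPerm i), over_liftPerm i⟩

theorem reach_roots : ((List.range 12).all fun r => [4, 5, 6, 7].any fun s => Nat.beq r s ||
    (List.range 2).any fun i => Nat.beq (chevG2.reflectRoot i s) r ||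
      (List.range 2).any fun j => Nat.beq (chevG2.reflectRoot j (chevG2.reflectRoot i s)) r) = true := by
  decide +kernel

theorem proj_surjective : Function.Surjective proj := by
  set S := proj.range.map (chevG2.group (ZMod 3)).subtype with hS
  have hpow : ∀ (r : ℕ) (u : ZMod 3), u ≠ 0 → C3.xGL r u ∈ S → ∀ t, C3.xGL r t ∈ S := by
    intro r u hu h t
    obtain ⟨n, rfl⟩ : ∃ n : ℕ, (n : ZMod 3) * u = t :=
      ⟨(t / u).val, by rw [ZMod.natCast_zmod_val, div_mul_cancel₀ t hu]⟩
    induction n with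
    | zero => rw [Nat.cast_zero, zero_mul, C3.xGL_zero]; exact one_mem _
    | succ n ih => rw [Nat.cast_succ, add_mul, one_mul, C3.xGL_add]; exact mul_mem ih h
  have hgen : ∀ s ∈ [4, 5, 6, 7], ∀ t, C3.xGL s t ∈ S := by
    intro s hs
    obtain ⟨i, rfl⟩ : ∃ i : Fin 5, gRoot i.val = s := by
      simp only [List.mem_cons, List.not_mem_nil, or_false] at hs
      rcases hs with rfl | rfl | rfl | rfl
      exacts [⟨0, rfl⟩, ⟨1, rfl⟩, ⟨2, rfl⟩, ⟨3, rfl⟩]
    refine hpow _ 1 one_ne_zero ⟨proj (liftEl i), ⟨_, rfl⟩, ?_⟩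
    show C3.wordGL ([(gRoot i.val, 1)].map fun p => (p.1, (p.2 : ZMod 3))) = _
    simp [ChevCore.wordGL]
  have hstep : ∀ i, i < 2 → ∀ s, s < 12 → (∀ t, C3.xGL s t ∈ S) →
      ∀ t, C3.xGL (chevG2.reflectRoot i s) t ∈ S := by
    intro i hi s hs h
    let i' : Fin chevG2.rank := ⟨i, hi⟩
    have hm := CfsgLib.ChevCover.Cover.moves_nGL C3 (one_mem C3.hR.weyl) i' (t := (1 : ZMod 3))
      one_ne_zero
    obtain ⟨u, hu⟩ := hm.2 (⟨s, hs⟩ : Fin chevG2.nroots) 1
    have hsimple : ∀ k, k < 2 → chevG2.simple k ∈ [4, 5, 6, 7] ∧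
        chevG2.neg (chevG2.simple k) ∈ [4, 5, 6, 7] := by decide
    have hn : C3.nGL ((1 : Equiv.Perm (Fin chevG2.nroots)) (C3.pRoot i')) 1 ∈ S := by
      show C3.wordGL (chevG2.nWord (chevG2.simple i) 1) ∈ S
      simp only [ChevCore.wordGL, ChevalleyDatum.nWord, List.map_cons, List.map_nil,
        List.prod_cons, List.prod_nil, mul_one]
      exact mul_mem (hgen _ (hsimple i hi).1 _)
        (mul_mem (hgen _ (hsimple i hi).2 _) (hgen _ (hsimple i hi).1 _))
    have hu0 : u ≠ 0 := by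
      rintro rfl
      rw [C3.xGL_zero, mul_inv_eq_one, mul_eq_left, C3.xGL_eq_one_iff hs] at hu
      exact one_ne_zero hu
    refine hpow _ u hu0 ?_
    have e : ((1 * C3.hR.sPerm i' * (1 : Equiv.Perm (Fin chevG2.nroots))⁻¹) ⟨s, hs⟩ :
        Fin chevG2.nroots).val = chevG2.reflectRoot i s := by
      simp [ReflData.sPerm_val, i']
    rw [← e, ← hu]
    exact mul_mem (mul_mem hn (h 1)) (inv_mem hn)
  have hmem : ∀ (r : ℕ) (t : ZMod 3), r < chevG2.nroots → C3.xGL r t ∈ S := by
    intro r t hr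
    have hc := reach_roots
    simp only [List.all_eq_true, List.mem_range, List.any_eq_true, Bool.or_eq_true,
      Nat.beq_eq] at hc
    obtain ⟨s, hs, rfl | ⟨i, hi, rfl | ⟨j, hj, rfl⟩⟩⟩ := hc r hr
    · exact hgen _ hs t
    · refine hstep i hi s ?_ (hgen s hs) t
      simp only [List.mem_cons, List.not_mem_nil, or_false] at hs
      omega
    · have hs12 : s < 12 := by
        simp only [List.mem_cons, List.not_mem_nil, or_false] at hs
        omega
      exact hstep j hj _ (C3.hR.refl_lt ⟨i, hi⟩ s hs12) (hstep i hi s hs12 (hgen s hs)) t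
  intro g
  obtain ⟨h, hh, he⟩ := C3.group_le hmem g.2
  obtain ⟨z, hz⟩ := hh
  exact ⟨z, hz.trans (Subtype.ext he)⟩

/-- The shift as an element of the cover. -/
def shiftEl (k : ZMod 3) : triple := ⟨(1, shiftPerm k), over_shift k⟩

theorem mem_ker {x : triple} : x ∈ proj.ker ↔ ∃ k, x = shiftEl k := by
  constructor
  · intro hx
    obtain ⟨⟨g, σ⟩, h⟩ := x
    obtain rfl : g = 1 := hx
    exact ⟨_, Subtype.ext (Prod.ext rfl (eq_shift h))⟩
  · rintro ⟨k, rfl⟩
    rfl

theorem shiftEl_mul (k l : ZMod 3) : shiftEl k * shiftEl l = shiftEl (k + l) :=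
  Subtype.ext (Prod.ext (one_mul 1) (Equiv.ext fun p => Prod.ext rfl (by
    show p.2 + l + k = p.2 + (k + l)
    ring)))

theorem shiftEl_central (k : ZMod 3) : shiftEl k ∈ Subgroup.center triple := by
  rw [Subgroup.mem_center_iff]
  intro x
  refine Subtype.ext (Prod.ext ?_ (Equiv.ext fun p => ?_))
  · show x.1.1 * 1 = 1 * x.1.1
    rw [mul_one, one_mul]
  · show x.1.2 (p.1, p.2 + k) = ((x.1.2 p).1, (x.1.2 p).2 + k)
    exact (x.2 : Over x.1.1 x.1.2).shift k p

theorem shift_one_mem : shiftEl 1 ∈ commutator triple := by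
  have hc := comm_ok
  simp only [commOK, Bool.or_eq_true, List.all_eq_true, List.mem_range, Bool.and_eq_true,
    Nat.beq_eq] at hc
  have key : ∀ a b : Fin 5, gEl a * gEl b = gEl b * gEl a →
      (∀ x < 378, dat a.val (dat b.val x / 4) / 4 = dat b.val (dat a.val x / 4) / 4 ∧
        (dat b.val x % 4 + dat a.val (dat b.val x / 4) % 4) % 3 =
          (dat a.val x % 4 + dat b.val (dat a.val x / 4) % 4 + 1) % 3) →
      shiftEl 1 ∈ commutator triple := by
    intro a b hab hx
    have he : shiftEl 1 * (liftEl b * liftEl a) = liftEl a * liftEl b := by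
      refine Subtype.ext (Prod.ext ?_ (Equiv.ext fun p => ?_))
      · show 1 * (gEl b * gEl a) = gEl a * gEl b
        rw [one_mul, hab]
      · show shiftPerm 1 (liftPerm b (liftPerm a p)) = liftPerm a (liftPerm b p)
        obtain ⟨h1, h2⟩ := hx p.1.val p.1.isLt
        rw [shiftPerm_apply, liftPerm_apply, liftPerm_apply, liftPerm_apply, liftPerm_apply]
        refine Prod.ext (Fin.ext ?_) ?_
        · exact h1.symm
        · have h3 := congrArg (fun n : ℕ => (n : ZMod 3)) h2
          simp only [ZMod.natCast_mod, Nat.cast_add, Nat.cast_one] at h3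
          simp only [linePerm_val]
          linear_combination -h3
    have h4 : shiftEl 1 = ⁅liftEl a, liftEl b⁆ := by
      rw [commutatorElement_def, mul_assoc _ (liftEl a)⁻¹, ← _root_.mul_inv_rev,
        eq_mul_inv_iff_mul_eq, he]
    rw [h4, commutator_def]
    exact Subgroup.commutator_mem_commutator (Subgroup.mem_top _) (Subgroup.mem_top _)
  rcases hc with hc | hc
  · exact key 3 4 comm_elts hc
  · exact key 4 3 comm_elts.symm hc

theorem ker_le_commutator : proj.ker ≤ commutator triple := by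
  intro x hx
  obtain ⟨k, rfl⟩ := mem_ker.1 hx
  obtain ⟨n, rfl⟩ : ∃ n : ℕ, (n : ZMod 3) = k := ⟨k.val, ZMod.natCast_zmod_val k⟩
  induction n with
  | zero =>
    rw [Nat.cast_zero, show shiftEl 0 = 1 from Subtype.ext (Prod.ext rfl (Equiv.ext fun p =>
      Prod.ext rfl (add_zero p.2)))]
    exact one_mem _
  | succ n ih => rw [Nat.cast_succ, ← shiftEl_mul]; exact mul_mem (ih (mem_ker.2 ⟨_, rfl⟩)) shift_one_mem

/-- The kernel is the group of shifts. -/
theorem exists_ker_equiv : Nonempty (proj.ker ≃* Multiplicative (ZMod 3)) := by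
  let φ : Multiplicative (ZMod 3) →* proj.ker :=
    MonoidHom.mk' (fun k => ⟨shiftEl k.toAdd, mem_ker.2 ⟨_, rfl⟩⟩)
      fun k l => Subtype.ext (shiftEl_mul _ _).symm
  refine ⟨(MulEquiv.ofBijective φ ⟨fun k l h => ?_, fun x => ?_⟩).symm⟩
  · have h1 := congrArg (fun y : proj.ker => ((y : triple).1.2 ((0 : Fin 378), (0 : ZMod 3))).2) h
    simpa [φ, shiftEl, shiftPerm_apply] using h1
  · obtain ⟨k, hk⟩ := mem_ker.1 x.2
    exact ⟨Multiplicative.ofAdd k, Subtype.ext hk.symm⟩

universe u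

/-- The cover in any universe. -/
theorem exists_stem {F : Type u} [Field F] [Fintype F] (hF : Fintype.card F = 3) :
    ∃ (Γ : Type u) (_ : Group Γ) (_ : Finite Γ) (σ : Γ →* ↥(chevG2.group F)),
      Cfsg.IsStemExtension σ ∧ Nonempty (σ.ker ≃* Multiplicative (ZMod 3)) := by
  obtain ⟨e⟩ := exists_equiv hF
  let d : ULift.{u} triple ≃* triple := MulEquiv.ulift
  let σ : ULift.{u} triple →* ↥(chevG2.group F) :=
    e.symm.toMonoidHom.comp (proj.comp d.toMonoidHom)
  have hker : σ.ker = proj.ker.comap d.toMonoidHom := by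
    ext x
    rw [MonoidHom.mem_ker, Subgroup.mem_comap, MonoidHom.mem_ker]
    exact MulEquiv.map_eq_one_iff e.symm
  refine ⟨ULift.{u} triple, inferInstance, inferInstance, σ,
    ⟨e.symm.surjective.comp (proj_surjective.comp d.surjective), ?_, ?_⟩, ?_⟩
  · rw [hker]
    intro x hx
    obtain ⟨k, hk⟩ := mem_ker.1 (Subgroup.mem_comap.1 hx)
    rw [Subgroup.mem_center_iff]
    intro y
    apply d.injective
    rw [map_mul, map_mul]
    exact Subgroup.mem_center_iff.1 (hk ▸ shiftEl_central k) (d y)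
  · rw [hker]
    intro x hx
    have h1 : d x ∈ commutator triple := ker_le_commutator (Subgroup.mem_comap.1 hx)
    have h2 : (commutator (ULift.{u} triple)).map d.toMonoidHom = commutator triple := by
      rw [commutator_def, commutator_def, Subgroup.map_commutator,
        Subgroup.map_top_of_surjective _ d.surjective]
    rw [← h2] at h1
    obtain ⟨y, hy, hxy⟩ := h1
    exact d.injective hxy ▸ hy
  · obtain ⟨f⟩ := exists_ker_equiv
    let d' : ↥(proj.ker.comap d.toMonoidHom) ≃* ↥proj.ker :=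
      { toFun := fun x => ⟨d x.1, x.2⟩
        invFun := fun y => ⟨d.symm y.1, Subgroup.mem_comap.2
          (show d (d.symm y.1) ∈ proj.ker by rw [MulEquiv.apply_symm_apply]; exact y.2)⟩
        left_inv := fun x => Subtype.ext (d.symm_apply_apply _)
        right_inv := fun y => Subtype.ext (d.apply_symm_apply _)
        map_mul' := fun x y => Subtype.ext (map_mul d _ _) }
    exact ⟨(MulEquiv.subgroupCongr hker).trans (d'.trans f)⟩

end CfsgLib.GTwoThreeMult
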