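import Cfsg.Agent.Lib.GTwoThreeMult.CoverData
import Cfsg.Agent.Lib.Ree3.Data
import Cfsg.Agent.Lib.Ree3.Finite

/-!
Kernel checks of the labelled graph of `G2(3)` on 378 lines.
-/

set_option autoImplicit false
set_option maxRecDepth 100000

namespace CfsgLib.GTwoThreeMult

open CfsgLib.Ree3

/-- A coordinate of a coded vector. -/
def vdig (c i : ℕ) : ℕ := c / 3 ^ i % 3

/-- The code of the opposite vector. -/
def negc (c : ℕ) : ℕ :=
  2 * vdig c 0 % 3 + 3 * (2 * vdig c 1 % 3) + 9 * (2 * vdig c 2 % 3) + 27 * (2 * vdig c 3 % 3) +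
    81 * (2 * vdig c 4 % 3) + 243 * (2 * vdig c 5 % 3) + 729 * (2 * vdig c 6 % 3)

/-- The code of a line. -/
def ptc (x : ℕ) : ℕ := (ptsP >>> (12 * x)) % 4096

/-- The line of a code. -/
def idxOf (c : ℕ) : ℕ := (idxP >>> (9 * c)) % 512

/-- The root of a generator. -/
def gRoot (i : ℕ) : ℕ := [4, 5, 6, 7, 11].getD i 0

/-- The image of a line with its switching, as four times the line plus the switching. -/
def dat (i x : ℕ) : ℕ := (imgs.getD i 0 >>> (11 * x)) % 2048

/-- A neighbour of a line with its label. -/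
def nb (x k : ℕ) : ℕ := (adjs.getD x 0 >>> (11 * k)) % 2048

/-- The lines are recovered from their two vectors. -/
def ptsOK : Bool :=
  (List.range 378).all fun x =>
    Nat.blt (ptc x) 2187 && Nat.beq (idxOf (ptc x)) x && Nat.beq (idxOf (negc (ptc x))) x

/-- The image of an edge is an edge. -/
def edgeOK (P E' Q' a e : ℕ) : Bool :=
  Nat.beq ((E' >>> (11 * ((Q' >>> (8 * ((P >>> (11 * (e / 4))) % 2048 / 4))) % 256))) % 2048)
      (4 * ((P >>> (11 * (e / 4))) % 2048 / 4) +
        ((e % 4 - 1 + a + 3 - (P >>> (11 * (e / 4))) % 2048 % 4) % 3 + 1)) &&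
    Nat.blt ((Q' >>> (8 * ((P >>> (11 * (e / 4))) % 2048 / 4))) % 256) 117 &&
    !Nat.beq (e % 4) 0

/-- The edges at a line go to those at its image. -/
def rowOK (P E E' Q' a : ℕ) : Bool :=
  (List.range 117).all fun k => edgeOK P E' Q' a ((E >>> (11 * k)) % 2048)

/-- A generator keeps the edges. -/
def labOK (i : ℕ) : Bool :=
  (List.range 378).all fun x => rowOK (imgs.getD i 0) (adjs.getD x 0) (adjs.getD (dat i x / 4) 0)
    (poss.getD (dat i x / 4) 0) (dat i x % 4)

/-- The image of a coded vector under a packed matrix. -/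
def rowDot (M c j : ℕ) : ℕ :=
  (dig M (7 * j) * vdig c 0 + dig M (7 * j + 1) * vdig c 1 + dig M (7 * j + 2) * vdig c 2 +
    dig M (7 * j + 3) * vdig c 3 + dig M (7 * j + 4) * vdig c 4 + dig M (7 * j + 5) * vdig c 5 +
    dig M (7 * j + 6) * vdig c 6) % 3

/-- A packed matrix sends one line to another. -/
def lineTo (M c c' : ℕ) : Bool :=
  ((List.range 7).all fun j => Nat.beq (rowDot M c j) (vdig c' j)) ||
    (List.range 7).all fun j => Nat.beq (rowDot M c j) (2 * vdig c' j % 3)

/-- A generator acts on the lines by its permutation. -/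
def lineOK (i : ℕ) : Bool :=
  (List.range 378).all fun x => Nat.blt (dat i x / 4) 378 && Nat.blt (dat i x % 4) 3 &&
    lineTo (rootImages.getD (3 * gRoot i + 1) 0) (ptc x) (ptc (dat i x / 4))

/-- The first neighbour of a line occurs only once. -/
def firstOK : Bool :=
  (List.range 378).all fun x =>
    (List.range 117).all fun k => Nat.beq k 0 || !Nat.beq (nb x k / 4) (nb x 0 / 4)

/-- Every line but the first is joined to an earlier one. -/
def connOK : Bool :=
  (List.range 378).all fun x => Nat.beq x 0 || (Nat.blt (nb x 0 / 4) x && !Nat.beq (nb x 0 % 4) 0)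

/-- The lifts of two commuting root elements differ by a shift. -/
def commOK (i j : ℕ) : Bool :=
  (List.range 378).all fun x =>
    Nat.beq (dat i (dat j x / 4) / 4) (dat j (dat i x / 4) / 4) &&
      Nat.beq ((dat j x % 4 + dat i (dat j x / 4) % 4) % 3)
        ((dat i x % 4 + dat j (dat i x / 4) % 4 + 1) % 3)

theorem pts_ok : ptsOK = true := by decide +kernel
theorem conn_ok : connOK = true := by decide +kernel
theorem comm_ok : (commOK 3 4 || commOK 4 3) = true := by decide +kernel

end CfsgLib.GTwoThreeMult
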