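import Cfsg.Agent.Lib.ChevMult.SmallMove
import Cfsg.Agent.Lib.ChevMult.General
import Cfsg.Agent.Lib.ChevStr.Mem
import Cfsg.Agent.S1078

/-!
The Schur multiplier of `G2(3)` is generated by the commutator of lifts of one pair of orthogonal
short and long root elements, an element of order dividing three.
-/

set_option autoImplicit false
set_option maxRecDepth 100000

namespace CfsgLib.GTwoThreeMult

open Cfsg.Lie CfsgLib.ChevStr CfsgLib.ChevCover CfsgLib.ChevMult
open scoped MatrixGroups commutatorElement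

universe u

/-- Two roots with the same character on the torus over three elements. -/
def orthB (r s : ℕ) : Bool :=
  !Nat.beq s r && !Nat.beq s (chevG2.neg r) &&
    (List.finRange chevG2.rank).all fun j =>
      decide ((chevG2.cartan j.val r - chevG2.cartan j.val s) % (2 : ℤ) = 0)

/-- The image of a root under a word in the fundamental reflections. -/
def wordAct : List (Fin chevG2.rank) → ℕ → ℕ
  | [], s => s
  | i :: L, s => chevG2.reflectRoot i.val (wordAct L s)

/-- Words for all elements of the Weyl group. -/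
def words : List (List (Fin chevG2.rank)) :=
  ([[], [0], [1], [0, 1], [1, 0], [0, 1, 0], [1, 0, 1], [0, 1, 0, 1], [1, 0, 1, 0],
    [0, 1, 0, 1, 0], [1, 0, 1, 0, 1], [0, 1, 0, 1, 0, 1]] : List (List (Fin 2))).map
    (List.map fun i => (⟨i.val, i.isLt⟩ : Fin chevG2.rank))

/-- Two roots are separated by the torus over three elements, or orthogonal. -/
def pairG2B : Bool :=
  (List.range 12).all fun r => (List.range 12).all fun s =>
    Nat.beq s r || Nat.beq s (chevG2.neg r) || (sepB chevG2 2 r s || sepB chevG2 2 s r) || orthB r s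

theorem pairAllG2 : pairG2B = true := by decide +kernel

theorem liftAllG2 : ((List.range 12).all fun r => sep1B chevG2 2 r) = true := by decide +kernel

theorem orth_facts : ((List.range 12).all fun r => (List.range 12).all fun s => !orthB r s ||
    (((chevG2.commTerms r s).isEmpty || (chevG2.commTerms s r).isEmpty) && com2B chevG2 3 r s &&
      words.any fun L => (Nat.beq (wordAct L r) 7 && Nat.beq (wordAct L s) 11) ||
        (Nat.beq (wordAct L r) 11 && Nat.beq (wordAct L s) 7))) = true := by decide +kernel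

theorem base_com : com2B chevG2 3 7 11 = true := by decide +kernel

/-- The short root of the standard pair. -/
def rA : Fin chevG2.nroots := ⟨7, by decide⟩

/-- The long root of the standard pair. -/
def rB : Fin chevG2.nroots := ⟨11, by decide⟩

theorem rA_val : (rA : ℕ) = 7 := rfl

theorem rB_val : (rB : ℕ) = 11 := rfl

variable {F : Type u} [Field F] [Fintype F] {C : ChevCore chevG2 F} {E Γ : Type*} [Group E]
  [Group Γ] (S : Small C E Γ)

omit [Fintype F] in
theorem exists_nice (L : List (Fin chevG2.rank)) : ∃ n v, S.G.Nice n v ∧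
    ∀ s : Fin chevG2.nroots, (v s).val = wordAct L s.val := by
  induction L with
  | nil => exact ⟨1, 1, S.G.nice_one, fun s => rfl⟩
  | cons i L ih =>
    obtain ⟨n, v, hn, hv⟩ := ih
    refine ⟨S.G.N (C.pRoot i) 1 * n, S.G.refl 1 i * v, ?_, fun s => ?_⟩
    · refine Cover.Nice.mul S.G ?_ hn
      have h := S.G.nice_N S.hadj (one_mem C.hR.weyl) i (t := (1 : F)) one_ne_zero
      simpa using h
    · have e : S.G.refl 1 i = C.hR.sPerm i := by simp [Cover.refl]
      rw [e, Equiv.Perm.mul_apply, ReflData.sPerm_val, hv]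
      rfl

/-- The commutator of the lifts of the standard orthogonal pair. -/
noncomputable def c0 : E := S.P.cm (S.G.X rA 1) (S.G.X rB 1)

theorem cm_base_mem (hnat : ∀ t : F, ∃ n : ℕ, (n : F) = t) [CharP F 3] (t u : F) :
    S.P.cm (S.G.X rA t) (S.G.X rB u) ∈ Subgroup.zpowers (c0 S) := by
  obtain ⟨n, rfl⟩ := hnat t
  obtain ⟨k, rfl⟩ := hnat u
  have hc := S.com_of_com2B (p := 3) (r := rA) (s := rB) base_com
  have e : ∀ (r : Fin chevG2.nroots) (n : ℕ), S.G.X r (n : F) = S.G.X r 1 ^ n := fun r n => by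
    rw [S.X_pow, mul_one]
  rw [show S.G.X rA (n : F) = S.G.X rA 1 ^ n from e rA n,
    show S.G.X rB (k : F) = S.G.X rB 1 ^ k from e rB k,
    S.cm_pow_left ((hc 1 1).pow_right k), S.cm_pow_right (hc 1 1), ← pow_mul]
  exact Subgroup.npow_mem_zpowers _ _

theorem cm_orth_mem (hnat : ∀ t : F, ∃ n : ℕ, (n : F) = t) [CharP F 3] {r s : Fin chevG2.nroots}
    (h : orthB r.val s.val = true) (t u : F) :
    S.P.cm (S.G.X r t) (S.G.X s u) ∈ Subgroup.zpowers (c0 S) := by
  have hf := orth_facts
  simp only [List.all_eq_true, List.mem_range, Bool.or_eq_true, Bool.not_eq_true',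
    Bool.and_eq_true, List.any_eq_true, Nat.beq_eq] at hf
  obtain ⟨⟨-, hcom⟩, L, -, hL⟩ := (hf r r.isLt s s.isLt).resolve_left (by simp [h])
  have hc := S.com_of_com2B (p := 3) (r := r) (s := s) hcom
  obtain ⟨n, v, hn, hv⟩ := exists_nice S L
  obtain ⟨t', ht⟩ := hn.2 r t
  obtain ⟨u', hu⟩ := hn.2 s u
  have h1 := S.P.conj_cm (S.P.lift n) (S.G.X r t) (S.G.X s u)
  rw [S.P.p_lift, ht, hu, Subgroup.mem_center_iff.1 (S.P.cm_mem_center (hc t u).eq) (S.P.lift n),
    mul_inv_cancel_right, hv, hv] at h1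
  rw [h1]
  rcases hL with ⟨e1, e2⟩ | ⟨e1, e2⟩ <;> rw [e1, e2] <;> simp only [← rA_val, ← rB_val]
  · exact cm_base_mem S hnat t' u'
  · rw [← S.P.cm_inv]
    exact inv_mem (cm_base_mem S hnat u' t')

theorem c0_pow [CharP F 3] : c0 S ^ 3 = 1 := by
  have hc := S.com_of_com2B (p := 3) (r := rA) (s := rB) base_com
  have e : S.G.X rA (1 : F) ^ 3 = 1 := by
    rw [S.X_pow, CharP.cast_eq_zero F 3, zero_mul, S.G.X_zero]
  rw [c0, ← S.cm_pow_left (hc 1 1), e, S.cm_one_left]

/-- A central extension in which the orthogonal pairs commute splits. -/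
theorem split_of_orth (hnat : ∀ t : F, ∃ n : ℕ, (n : F) = t) [CharP F 3] (hm : Nat.card Fˣ = 2)
    {E : Type u} [Group E] (S : Small C E (chevG2.SteinbergCover F)) (hS : S.G = presented C)
    (hkill : ∀ (r s : Fin chevG2.nroots), orthB r.val s.val = true →
      ∀ t u, S.P.cm (S.G.X r t) (S.G.X s u) = 1) :
    ∃ τ : chevG2.SteinbergCover F →* E, S.P.p.comp τ = MonoidHom.id _ := by
  have hlift := liftAllG2
  simp only [List.all_eq_true, List.mem_range] at hlift
  choose g hg using fun r : Fin chevG2.nroots =>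
    S.exists_good (S.cm_self_prime hnat r) (S.sep1_of_sep1B hm (hlift r r.isLt))
  refine exists_section_small S hS g hg fun r s hsr hsn => ?_
  have hp := pairAllG2
  simp only [pairG2B, List.all_eq_true, List.mem_range, Bool.or_eq_true, Nat.beq_eq] at hp
  rcases hp r r.isLt s s.isLt with ((h | h) | h) | h
  · exact absurd (Fin.ext h) hsr
  · exact absurd (Fin.ext h) hsn
  · rcases h with h | h
    · exact Or.inl (S.kill_of_pair g hg (S.sep_of_sepB hm h))
    · exact Or.inr (S.kill_of_pair g hg (S.sep_of_sepB hm h))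
  · have hf := orth_facts
    simp only [List.all_eq_true, List.mem_range, Bool.or_eq_true, Bool.not_eq_true',
      Bool.and_eq_true, List.any_eq_true, List.isEmpty_iff] at hf
    obtain ⟨⟨hW | hW, -⟩, -⟩ := (hf r r.isLt s s.isLt).resolve_left (by simp [h])
    · exact Or.inl (S.kill_of_cm g hg hW (hkill r s h))
    · exact Or.inr (S.kill_of_cm g hg hW fun t u => by rw [← S.P.cm_inv, hkill r s h, inv_one])

theorem natCast_surjective_three {F : Type u} [Field F] [Fintype F] [CharP F 3]
    (hF : Fintype.card F = 3) (t : F) : ∃ n : ℕ, (n : F) = t := by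
  have hb : Function.Bijective fun n : Fin 3 => ((n : ℕ) : F) := by
    refine (Fintype.bijective_iff_injective_and_card _).2 ⟨fun a b hab => Fin.ext ?_, by simp [hF]⟩
    exact CharP.natCast_injOn_Iio F 3 a.isLt b.isLt hab
  obtain ⟨n, hn⟩ := hb.2 t
  exact ⟨n, hn⟩

/-- The bound on the kernels of stem extensions. -/
theorem exists_onto_ker {F : Type u} [Field F] [Fintype F] (hF : Fintype.card F = 3)
    {Γ : Type u} [Group Γ] [Finite Γ] {σ : Γ →* ↥(chevG2.group F)}
    (hσ : Cfsg.IsStemExtension σ) :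
    ∃ π : Multiplicative (ZMod 3) →* σ.ker, Function.Surjective π := by
  haveI : CharP F 3 := by
    haveI := Fact.mk Nat.prime_three
    exact charP_of_card_eq_prime_pow (f := 1) (by rw [hF, pow_one])
  have hnat := natCast_surjective_three hF
  have hm : Nat.card Fˣ = 2 := by rw [Nat.card_units, Nat.card_eq_fintype_card, hF]
  have hD : chevG2 ∈ [chevG2, chevB2, chevD4, chevF4, chevE6, chevE7, chevE8] :=
    List.mem_cons_self ..
  obtain ⟨C, hη⟩ := exists_core_etaNeg hD F
  have hadj := hasNeighbours hD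
  obtain ⟨e, -⟩ := exists_cover_equiv C hη hadj
  have hperf : commutator (chevG2.SteinbergCover F) = ⊤ := by
    refine CfsgLib.SteinbergPerfect.perfect_of_cert _ (fun _ => ?_) CfsgLib.SteinbergPerfect.check_G2
    refine ⟨-1, neg_ne_zero.2 one_ne_zero, fun h => ?_⟩
    have h2 : ((2 : ℕ) : F) = 0 := by push_cast; linear_combination -h
    have h3 := (CharP.cast_eq_zero_iff F 3 2).1 h2
    omega
  have hinj : Function.Injective (groupHom C) := by
    rw [← MonoidHom.ker_eq_bot_iff, ker_groupHom_eq_center C hadj,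
      Cfsg.Agent.S1078.result (K := F) chevG2 (List.mem_cons_self ..)]
  let ψ : chevG2.SteinbergCover F ≃* ↥(chevG2.group F) :=
    e.trans (MulEquiv.ofBijective (groupHom C) ⟨hinj, groupHom_surjective C⟩)
  have hQ : commutator ↥(chevG2.group F) = ⊤ := by
    rw [← CfsgLib.SchurCover.map_commutator_eq ψ.toMonoidHom ψ.surjective, hperf,
      Subgroup.map_top_of_surjective _ ψ.surjective]
  have hΓ := commutator_eq_top_of_stem hσ hQ
  have hker : (ψ.symm.toMonoidHom.comp σ).ker = σ.ker :=
    MonoidHom.ker_mulEquiv_comp σ ψ.symm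
  let S : Small C Γ (chevG2.SteinbergCover F) :=
    ⟨presented C, ⟨ψ.symm.toMonoidHom.comp σ, ψ.symm.surjective.comp hσ.1,
      hker.le.trans hσ.2.1⟩, hperf, hadj⟩
  set z := c0 S with hz
  have hzc : z ∈ σ.ker := by
    rw [← hker, MonoidHom.mem_ker]
    show S.P.p (c0 S) = 1
    rw [c0, S.P.p_cm, commutatorElement_eq_one_iff_mul_comm]
    exact (S.com_of_com2B (p := 3) (r := rA) (s := rB) base_com 1 1).eq
  have hN : (Subgroup.zpowers z).Normal := ⟨fun x hx g => by
    rw [Subgroup.mem_center_iff.1 (hσ.2.1 ((Subgroup.zpowers_le.2 hzc) hx)) g,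
      mul_inv_cancel_right]
    exact hx⟩
  have hNk : Subgroup.zpowers z ≤ (ψ.symm.toMonoidHom.comp σ).ker := by
    rw [hker]; exact Subgroup.zpowers_le.2 hzc
  let mk := QuotientGroup.mk' (Subgroup.zpowers z)
  let p' : Γ ⧸ Subgroup.zpowers z →* chevG2.SteinbergCover F :=
    QuotientGroup.lift _ (ψ.symm.toMonoidHom.comp σ) hNk
  have hc' : p'.ker ≤ Subgroup.center _ := by
    intro x hx
    obtain ⟨x, rfl⟩ := QuotientGroup.mk'_surjective _ x
    rw [Subgroup.mem_center_iff]
    intro y
    obtain ⟨y, rfl⟩ := QuotientGroup.mk'_surjective _ y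
    rw [← map_mul, ← map_mul, Subgroup.mem_center_iff.1 (hσ.2.1 (hker.le hx)) y]
  let S' : Small C (Γ ⧸ Subgroup.zpowers z) (chevG2.SteinbergCover F) :=
    ⟨presented C, ⟨p', fun y => by
      obtain ⟨x, hx⟩ := S.P.surj y
      exact ⟨mk x, hx⟩, hc'⟩, hperf, hadj⟩
  have hcm : ∀ a b, S'.P.cm a b = mk (S.P.cm a b) := fun a b => by
    rw [S'.P.cm_eq (x := mk (S.P.lift a)) (y := mk (S.P.lift b)) (S.P.p_lift a) (S.P.p_lift b),
      CExt.cm, map_commutatorElement]
  obtain ⟨τ, hτ⟩ := split_of_orth hnat hm S' rfl fun r s h t u => by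
    rw [hcm]
    exact (QuotientGroup.eq_one_iff _).2 (cm_orth_mem S hnat h t u)
  have hperf' : commutator (Γ ⧸ Subgroup.zpowers z) = ⊤ := by
    rw [← CfsgLib.SchurCover.map_commutator_eq mk (QuotientGroup.mk'_surjective _), hΓ,
      Subgroup.map_top_of_surjective _ (QuotientGroup.mk'_surjective _)]
  have hrange : τ.range = ⊤ := top_le_of_central hperf' hc' fun g =>
    ⟨τ (p' g), ⟨_, rfl⟩, DFunLike.congr_fun hτ (p' g)⟩
  have hle : σ.ker ≤ Subgroup.zpowers z := by
    intro x hx
    obtain ⟨y, hy⟩ : mk x ∈ τ.range := by rw [hrange]; exact Subgroup.mem_top _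
    have h1 : p' (τ y) = y := DFunLike.congr_fun hτ y
    rw [hy] at h1
    have h2 : y = 1 := h1.symm.trans (hker.ge hx)
    rw [h2, map_one] at hy
    exact (QuotientGroup.eq_one_iff _).1 hy.symm
  let f : ℤ →+ Additive σ.ker := zmultiplesHom _ (Additive.ofMul ⟨z, hzc⟩)
  have hf : f (3 : ℕ) = 0 := by
    show ((3 : ℕ) : ℤ) • Additive.ofMul (⟨z, hzc⟩ : σ.ker) = 0
    rw [← ofMul_zpow, zpow_natCast]
    exact congrArg Additive.ofMul (Subtype.ext (c0_pow S))
  refine ⟨AddMonoidHom.toMultiplicativeLeft (ZMod.lift 3 ⟨f, hf⟩), fun w => ?_⟩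
  obtain ⟨k, hk⟩ := Subgroup.mem_zpowers_iff.1 (hle w.2)
  refine ⟨Multiplicative.ofAdd (k : ZMod 3), ?_⟩
  show Additive.toMul (ZMod.lift 3 ⟨f, hf⟩ (k : ZMod 3)) = w
  rw [ZMod.lift_coe]
  exact Subtype.ext hk

end CfsgLib.GTwoThreeMult
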